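import Cfsg.Agent.Lib.Char.PSpSixThreeGraph.SuzukiEight
import Cfsg.Agent.Lib.Char.SemiSpectrum
import Cfsg.Agent.Lib.Char.FibrePower

/-!
# A Suzuki group with field automorphisms, extended by a twisted tensor module
-/

set_option autoImplicit false
set_option linter.style.haveILetI false
set_option linter.unusedSectionVars false

namespace CfsgLib.Char.PSpSixThreeGraph

open Matrix Polynomial CfsgLib.Lie
open scoped MatrixGroups

universe u

variable {F : Type u} [Field F] [Fintype F]

local notation "S8" => Cfsg.Sz F 1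

/-- Squaring. -/
noncomputable def frobTwo [CharP F 2] : F →+* F :=
  haveI : Fact (Nat.Prime 2) := ⟨Nat.prime_two⟩
  iterateFrobenius F 2 1

theorem frobTwo_apply [CharP F 2] (x : F) : frobTwo x = x ^ 2 := by
  rw [frobTwo, iterateFrobenius_def, pow_one]

theorem char_two (hF : Fintype.card F = 2 ^ (2 * 1 + 1)) : CharP F 2 :=
  haveI : Fact (Nat.Prime 2) := ⟨Nat.prime_two⟩
  charP_of_card_eq_prime_pow hF

variable (hF : Fintype.card F = 2 ^ (2 * 1 + 1))

/-- The field automorphisms act on the group. -/
noncomputable def galAct : RingAut F →* MulAut (S8) where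
  toFun := Suz.sigAut le_rfl hF
  map_one' := MulEquiv.ext fun g => Subtype.ext (Subtype.ext (Matrix.ext fun i j => rfl))
  map_mul' s t := MulEquiv.ext fun g => Subtype.ext (Subtype.ext (Matrix.ext fun i j => rfl))

/-- The group with the field automorphisms adjoined. -/
abbrev SzGal := SemidirectProduct (S8) (RingAut F) (galAct hF)

variable [CharP F 2]

/-- The action on four by four matrices. -/
noncomputable def actMat (c : SzGal hF) (M : Matrix (Fin 4) (Fin 4) F) : Matrix (Fin 4) (Fin 4) F :=
  matOf c.left * M.map c.right * ((matOf c.left).map frobTwo)ᵀ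

theorem matOf_one : matOf (1 : S8) = 1 := rfl

theorem matOf_mul (a b : S8) : matOf (a * b) = matOf a * matOf b := rfl

/-- The module. -/
noncomputable instance actInst : DistribMulAction (SzGal hF) (Matrix (Fin 4) (Fin 4) F) where
  smul := actMat hF
  one_smul M := by
    show matOf 1 * M.map (1 : RingAut F) * ((matOf 1).map frobTwo)ᵀ = M
    rw [matOf_one, Matrix.map_one _ (map_zero _) (map_one _), Matrix.transpose_one, Matrix.mul_one, Matrix.one_mul]
    exact Matrix.ext fun i j => rfl
  mul_smul c d M := by
    show matOf (c.left * galAct hF c.right d.left) * M.map (c.right * d.right : RingAut F) *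
        ((matOf (c.left * galAct hF c.right d.left)).map frobTwo)ᵀ =
      matOf c.left * (matOf d.left * M.map d.right * ((matOf d.left).map frobTwo)ᵀ).map c.right *
        ((matOf c.left).map frobTwo)ᵀ
    have h1 : matOf (galAct hF c.right d.left) = (matOf d.left).map c.right := rfl
    have h2 : ((matOf d.left).map c.right).map frobTwo = ((matOf d.left).map frobTwo).map c.right :=
      Matrix.ext fun i j => by simp [frobTwo_apply]
    have h3 : M.map (c.right * d.right : RingAut F) = (M.map d.right).map c.right := Matrix.ext fun i j => rfl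
    rw [matOf_mul, h1, Matrix.map_mul, Matrix.transpose_mul, h2, h3, Matrix.map_mul, Matrix.map_mul, transpose_map]
    simp only [Matrix.mul_assoc]
  smul_zero c := by
    show matOf c.left * (0 : Matrix (Fin 4) (Fin 4) F).map c.right * _ = 0
    rw [Matrix.map_zero _ (map_zero _), Matrix.mul_zero, Matrix.zero_mul]
  smul_add c M N := by
    show matOf c.left * (M + N).map c.right * _ = _
    rw [Matrix.map_add _ (map_add _), Matrix.mul_add, Matrix.add_mul]
    rfl

/-- The extension. -/
abbrev BigGroup := Semi (SzGal hF) (Matrix (Fin 4) (Fin 4) F)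

theorem finite_szGal : Finite (SzGal hF) := by
  haveI : Finite (RingAut F) := Finite.of_injective (fun s : RingAut F => (s : F → F)) DFunLike.coe_injective
  exact Finite.of_injective (fun c : SzGal hF => (c.left, c.right)) fun a b h =>
    SemidirectProduct.ext (congrArg Prod.fst h) (congrArg Prod.snd h)

include hF in
theorem card_gal : Nat.card (RingAut F) = 3 := by
  haveI : Fact (Nat.Prime 2) := ⟨Nat.prime_two⟩
  exact CfsgLib.AutPSL.card_ringAut hF

/-- An element of order seven or thirteen commutes with no outer element. -/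
theorem right_eq_one_of_commute {y : S8} (hy : orderOf y = 7 ∨ orderOf y = 13) {c : SzGal hF}
    (hc : c * SemidirectProduct.inl y = SemidirectProduct.inl y * c) : c.right = 1 := by
  by_contra hne
  obtain ⟨i, hi⟩ := charpoly_not_fixed hF hy
  haveI : Fact (Nat.Prime 3) := ⟨Nat.prime_three⟩
  haveI : Finite (RingAut F) := Finite.of_injective (fun s : RingAut F => (s : F → F)) DFunLike.coe_injective
  have h := congrArg SemidirectProduct.left hc
  simp only [SemidirectProduct.mul_left, SemidirectProduct.left_inl, SemidirectProduct.right_inl, map_one,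
    MulAut.one_apply] at h
  have hchar : (matOf y).charpoly.map (c.right : RingAut F).toRingHom = (matOf y).charpoly := by
    rw [← Matrix.charpoly_map]
    have h2 : galAct hF c.right y = c.left⁻¹ * y * c.left := by rw [mul_assoc, ← h, inv_mul_cancel_left]
    have h3 : (matOf y).map (c.right : RingAut F).toRingHom =
        ((Matrix.SpecialLinearGroup.toGL (c.left : SL(4, F)))⁻¹).val * matOf y *
          (Matrix.SpecialLinearGroup.toGL (c.left : SL(4, F))).val := by
      have : (matOf y).map (c.right : RingAut F).toRingHom = matOf (galAct hF c.right y) := rfl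
      rw [this, h2, ← map_inv]
      rfl
    rw [h3, Matrix.coe_units_inv, Matrix.charpoly_units_conj']
  have hfix : c.right ((matOf y).charpoly.coeff i) = (matOf y).charpoly.coeff i := by
    conv_rhs => rw [← hchar, coeff_map]
    rfl
  let σ : RingAut F := RingEquiv.ofBijective (frobTwo (F := F))
    (Finite.injective_iff_bijective.1 (frobTwo (F := F)).injective)
  obtain ⟨n, hn⟩ := Subgroup.mem_zpowers_iff.1
    (mem_zpowers_of_prime_card (card_gal hF) hne : σ ∈ Subgroup.zpowers c.right)
  have : σ ((matOf y).charpoly.coeff i) = (matOf y).charpoly.coeff i := by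
    have hmem : c.right ∈ MulAction.stabilizer (RingAut F) ((matOf y).charpoly.coeff i) := hfix
    rw [← hn]
    exact zpow_mem hmem n
  exact hi (by rw [← frobTwo_apply]; exact this)

theorem szGal_card : Nat.card (SzGal hF) = 29120 * 3 := by
  rw [SemidirectProduct.card, card_S8 hF, card_gal hF]

/-- The prime divisors. -/
theorem prime_dvd_szGal {r : ℕ} (hr : r.Prime) (h : r ∣ 29120 * 3) :
    r = 2 ∨ r = 3 ∨ r = 5 ∨ r = 7 ∨ r = 13 := by
  rw [show 29120 * 3 = 2 ^ 6 * 3 * 5 * 7 * 13 by norm_num] at h
  simp only [hr.dvd_mul] at h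
  rcases h with (((h | h) | h) | h) | h
  · exact Or.inl ((Nat.prime_dvd_prime_iff_eq hr Nat.prime_two).1 (hr.dvd_of_dvd_pow h))
  all_goals
    have := (Nat.prime_dvd_prime_iff_eq hr (by norm_num)).1 h
    omega

/-- Orders missing from the group with field automorphisms. -/
theorem szGal_no {n : ℕ} (hn : n = 26 ∨ n = 21 ∨ n = 39 ∨ n = 35 ∨ n = 65 ∨ n = 91) (c : SzGal hF) :
    orderOf c ≠ n := by
  intro h
  haveI := finite_szGal hF
  haveI : Finite (RingAut F) := Finite.of_injective (fun s : RingAut F => (s : F → F)) DFunLike.coe_injective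
  have hr3 : orderOf c.right ∣ 3 := card_gal hF ▸ orderOf_dvd_natCard c.right
  have hrn : orderOf c.right ∣ n := h ▸ orderOf_map_dvd SemidirectProduct.rightHom c
  by_cases hr : c.right = 1
  · have hc : c = SemidirectProduct.inl c.left := SemidirectProduct.ext (by simp) (by simp [hr])
    rw [hc, orderOf_injective _ SemidirectProduct.inl_injective] at h
    rcases hn with rfl | rfl | rfl | rfl | rfl | rfl
    · exact no_pq hF (r := 13) (s := 2) (by norm_num) (by simp) h
    · exact no_pq hF (r := 7) (s := 3) (by norm_num) (by simp) h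
    · exact no_pq hF (r := 13) (s := 3) (by norm_num) (by simp) h
    · exact no_pq hF (r := 7) (s := 5) (by norm_num) (by simp) h
    · exact no_pq hF (r := 13) (s := 5) (by norm_num) (by simp) h
    · exact no_pq hF (r := 13) (s := 7) (by norm_num) (by simp) h
  have h3 : orderOf c.right = 3 := ((Nat.dvd_prime Nat.prime_three).1 hr3).resolve_left
    fun e => hr (orderOf_eq_one_iff.1 e)
  rw [h3] at hrn
  have key : ∀ r, (r = 7 ∨ r = 13) → n = 3 * r → False := by
    intro r hr' hn'
    have ho : orderOf (c ^ 3) = r := by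
      rw [orderOf_pow_of_dvd (by norm_num) (h.symm ▸ hrn), h, hn', Nat.mul_div_cancel_left _ (by norm_num)]
    have hright : (c ^ 3).right = 1 := by
      show SemidirectProduct.rightHom (c ^ 3) = 1
      rw [map_pow, ← h3]
      exact pow_orderOf_eq_one c.right
    have hc3 : c ^ 3 = SemidirectProduct.inl (c ^ 3).left :=
      SemidirectProduct.ext (by simp) (by rw [hright, SemidirectProduct.right_inl])
    rw [hc3, orderOf_injective _ SemidirectProduct.inl_injective] at ho
    refine hr (right_eq_one_of_commute hF (hr'.imp (fun e => ho.trans e) fun e => ho.trans e) ?_)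
    rw [← hc3]
    exact (Commute.self_pow c 3).eq
  rcases hn with rfl | rfl | rfl | rfl | rfl | rfl
  · norm_num at hrn
  · exact key 7 (Or.inl rfl) rfl
  · exact key 13 (Or.inr rfl) rfl
  all_goals norm_num at hrn

theorem two_nsmul_zero (w : Matrix (Fin 4) (Fin 4) F) : 2 • w = 0 := by
  rw [two_nsmul]
  exact Matrix.ext fun i j => CharTwo.add_self_eq_zero _

theorem finite_big : Finite (BigGroup hF) := by
  haveI := finite_szGal hF
  exact Finite.of_injective (fun x : BigGroup hF => (x.left.toAdd, x.right)) fun a b h => by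
    rw [semiPair_eta a, semiPair_eta b, (Prod.mk.inj h).1, (Prod.mk.inj h).2]

theorem orderOf_big (x : BigGroup hF) :
    orderOf x = orderOf x.right ∨ orderOf x = 2 * orderOf x.right := by
  haveI := finite_szGal hF
  rw [semiPair_eta x, orderOf_semiPair]
  set w := ∑ i ∈ Finset.range (orderOf x.right), x.right ^ i • x.left.toAdd
  have : addOrderOf w ∣ 2 := addOrderOf_dvd_of_nsmul_eq_zero (two_nsmul_zero w)
  rcases (Nat.dvd_prime Nat.prime_two).1 this with e | e
  · left; rw [e, mul_one]; rfl
  · right; rw [e, mul_comm]; rfl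

/-- Orders missing from the extension. -/
theorem big_no {n : ℕ} (hn : n = 26 ∨ n = 21 ∨ n = 39 ∨ n = 35 ∨ n = 65 ∨ n = 91) (x : BigGroup hF) :
    orderOf x ≠ n := by
  intro h
  haveI := finite_szGal hF
  haveI : Finite (RingAut F) := Finite.of_injective (fun s : RingAut F => (s : F → F)) DFunLike.coe_injective
  rcases orderOf_big hF x with e | e
  · exact szGal_no hF hn x.right (e.symm.trans h)
  rw [h] at e
  rcases hn with rfl | rfl | rfl | rfl | rfl | rfl <;> try omega
  have h13 : orderOf x.right = 13 := by omega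
  have hr : x.right.right = 1 := by
    rw [← orderOf_eq_one_iff]
    have h1 : orderOf x.right.right ∣ 3 := card_gal hF ▸ orderOf_dvd_natCard _
    have h2 : orderOf x.right.right ∣ 13 := h13 ▸ orderOf_map_dvd SemidirectProduct.rightHom x.right
    exact Nat.eq_one_of_dvd_coprimes (by norm_num) h1 h2
  have hl : orderOf x.right.left = 13 := by
    rw [← orderOf_injective _ (SemidirectProduct.inl_injective (φ := galAct hF))]
    rwa [show SemidirectProduct.inl x.right.left = x.right from
      SemidirectProduct.ext (by simp) (by simp [hr])]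
  have hw : ∑ i ∈ Finset.range (orderOf x.right), x.right ^ i • x.left.toAdd = 0 := by
    refine no_fixed hF hl (σ := frobTwo) frobTwo_apply ?_
    have hfix := smul_geom_sum_smul x.left.toAdd x.right
    generalize ∑ i ∈ Finset.range (orderOf x.right), x.right ^ i • x.left.toAdd = w at hfix ⊢
    conv_rhs => rw [← hfix]
    show _ = matOf x.right.left * w.map x.right.right * _
    rw [hr]
    rfl
  rw [semiPair_eta x, orderOf_semiPair, hw, addOrderOf_zero, mul_one, h13] at h
  omega

theorem sigAut_TS_one {a b : F} (ha : a = 0 ∨ a = 1) (hb : b = 0 ∨ b = 1) (s : RingAut F) :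
    galAct hF s (Suz.TS hF a b) = Suz.TS hF a b := by
  show Suz.sigAut le_rfl hF s (Suz.TS hF a b) = _
  rw [Suz.sigAut_TS le_rfl hF]
  rcases ha with rfl | rfl <;> rcases hb with rfl | rfl <;> simp

/-- An element of order five with entries in the prime field. -/
noncomputable def fiveElt : S8 := Suz.WS hF * Suz.TS hF 0 1

theorem matOf_five : matOf (fiveElt hF) = !![0, 0, 0, 1; 0, 0, 1, 0; 0, 1, 0, 1; 1, 0, 1, 1] := by
  show (Suz.Wm : Matrix (Fin 4) (Fin 4) F) * Suz.Tm 1 0 1 = _
  ext i j
  fin_cases i <;> fin_cases j <;>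
    simp [Suz.Wm, Suz.Tm, Suz.fO, Suz.th, Matrix.mul_apply, Fin.sum_univ_four]

theorem orderOf_five : orderOf (fiveElt hF) = 5 := by
  haveI : Fact (Nat.Prime 5) := ⟨by norm_num⟩
  refine orderOf_eq_prime (Subtype.ext (Subtype.ext ?_)) fun h => ?_
  · show matOf (fiveElt hF ^ 5) = 1
    rw [show fiveElt hF ^ 5 = fiveElt hF * fiveElt hF * (fiveElt hF * fiveElt hF) * fiveElt hF by
      simp only [pow_succ, pow_zero, one_mul, mul_assoc],
      matOf_mul, matOf_mul, matOf_mul, matOf_five]
    ext i j
    fin_cases i <;> fin_cases j <;> simp [Matrix.mul_apply, Fin.sum_univ_four, CharTwo.add_self_eq_zero]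
  · have := congrFun (congrFun (congrArg matOf h) 0) 0
    rw [matOf_five] at this
    simp [matOf_one] at this

theorem gal_five (s : RingAut F) : galAct hF s (fiveElt hF) = fiveElt hF := by
  rw [fiveElt, map_mul, sigAut_TS_one hF (Or.inl rfl) (Or.inr rfl)]
  congr 1
  exact Subtype.ext (Suz.sigSL_W s)

include hF in
theorem exists_gen : ∃ s : RingAut F, orderOf s = 3 := by
  haveI : Fact (Nat.Prime 3) := ⟨Nat.prime_three⟩
  haveI : Finite (RingAut F) := Finite.of_injective (fun s : RingAut F => (s : F → F)) DFunLike.coe_injective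
  exact exists_prime_orderOf_dvd_card' 3 (card_gal hF).symm.dvd

theorem exists_mul_order {y : S8} {n : ℕ} (hy : orderOf y = n) (hn : Nat.Coprime n 3)
    (hfix : ∀ s, galAct hF s y = y) : ∃ x : BigGroup hF, orderOf x = n * 3 := by
  obtain ⟨s, hs⟩ := exists_gen hF
  haveI := finite_szGal hF
  refine ⟨SemidirectProduct.inr (SemidirectProduct.inl y * SemidirectProduct.inr s), ?_⟩
  rw [orderOf_injective _ SemidirectProduct.inr_injective, Commute.orderOf_mul_eq_mul_orderOf_of_coprime,
    orderOf_injective _ SemidirectProduct.inl_injective, orderOf_injective _ SemidirectProduct.inr_injective, hy, hs]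
  · refine SemidirectProduct.ext ?_ ?_ <;> simp [hfix]
  · rw [orderOf_injective _ SemidirectProduct.inl_injective, orderOf_injective _ SemidirectProduct.inr_injective, hy, hs]
    exact hn

theorem exists_double_order {y : S8} {n : ℕ} (hy : orderOf y = n) (hn : Odd n)
    {v : Matrix (Fin 4) (Fin 4) F} (hv : v ≠ 0) (hfix : matOf y * v * ((matOf y).map frobTwo)ᵀ = v) :
    ∃ x : BigGroup hF, orderOf x = 2 * n := by
  haveI := finite_szGal hF
  set c : SzGal hF := SemidirectProduct.inl y with hc
  have hc' : orderOf c = n := by rw [hc, orderOf_injective _ SemidirectProduct.inl_injective, hy]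
  refine ⟨semiPair v c, ?_⟩
  have h1 : c • v = v := hfix
  have hall : ∀ i, c ^ i • v = v := fun i => by
    induction i with
    | zero => rw [pow_zero, one_smul]
    | succ i ih => rw [pow_succ, mul_smul, h1, ih]
  haveI : Fact (Nat.Prime 2) := ⟨Nat.prime_two⟩
  rw [orderOf_semiPair, hc', Finset.sum_congr rfl fun i _ => hall i, Finset.sum_const, Finset.card_range,
    mul_comm]
  congr 1
  obtain ⟨j, rfl⟩ := hn
  rw [add_nsmul, mul_nsmul', two_nsmul_zero, zero_add, one_nsmul]
  exact addOrderOf_eq_prime (two_nsmul_zero v) hv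

theorem exists_six : ∃ x : BigGroup hF, orderOf x = 6 := by
  refine exists_mul_order hF (y := Suz.TS hF 0 1) (n := 2) ?_ (by norm_num)
    (sigAut_TS_one hF (Or.inl rfl) (Or.inr rfl))
  haveI : Fact (Nat.Prime 2) := ⟨Nat.prime_two⟩
  refine orderOf_eq_prime (Subtype.ext ?_) fun h => ?_
  · rw [pow_two, Subgroup.coe_mul]
    show Suz.T 1 (0 : F) 1 * Suz.T 1 0 1 = 1
    rw [Suz.T_sq (Suz.isSuzField hF), mul_zero, Suz.T_zero]
  · have := congrFun (congrFun (congrArg matOf h) 1) 3
    simp [matOf, Suz.TS, Suz.T, Suz.Tm] at this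

theorem exists_fifteen : ∃ x : BigGroup hF, orderOf x = 15 :=
  exists_mul_order hF (orderOf_five hF) (by norm_num) (gal_five hF)

theorem exists_ten : ∃ x : BigGroup hF, orderOf x = 10 := by
  refine exists_double_order hF (orderOf_five hF) (by decide) (v := Suz.Wm) (fun h => ?_) ?_
  · simpa [Suz.Wm] using congrFun (congrFun h 0) 3
  · rw [matOf_five]
    ext i j
    fin_cases i <;> fin_cases j <;>
      simp [Suz.Wm, Matrix.mul_apply, Fin.sum_univ_four, frobTwo_apply, CharTwo.add_self_eq_zero]

theorem exists_fourteen : ∃ x : BigGroup hF, orderOf x = 14 := by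
  haveI : Fact (Nat.Prime 7) := ⟨by norm_num⟩
  obtain ⟨k, hk⟩ := exists_prime_orderOf_dvd_card' (G := Fˣ) 7 (by
    rw [Nat.card_units, Nat.card_eq_fintype_card, hF]
    norm_num)
  have hk7 : (k : F) ^ 7 = 1 := by rw [← Units.val_pow_eq_pow_val, ← hk, pow_orderOf_eq_one]; rfl
  have hy : orderOf (Suz.HS hF k : S8) = 7 := by
    refine orderOf_eq_prime (Subtype.ext ?_) fun h => ?_
    · rw [Subgroup.coe_pow]
      show (Suz.Hhom F 1 k) ^ 7 = 1
      rw [← map_pow, ← hk, pow_orderOf_eq_one, map_one]
    · have : k = 1 := Suz.HS_injective hF (h.trans (Subtype.ext Suz.H_one).symm)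
      rw [this, orderOf_one] at hk
      norm_num at hk
  refine exists_double_order hF hy (by decide) (v := Matrix.single 0 1 1)
    (fun h => by simpa using congrFun (congrFun h 0) 1) ?_
  have hd : matOf (Suz.HS hF k) = Matrix.diagonal (Suz.hd 1 k) := rfl
  rw [hd, Matrix.diagonal_map (map_zero _), Matrix.diagonal_transpose]
  ext i j
  rw [Matrix.mul_diagonal, Matrix.diagonal_mul]
  fin_cases i <;> fin_cases j <;>
    simp [Suz.hd, frobTwo_apply, Matrix.single, ← pow_mul, ← pow_add, hk7]

theorem big_card_dvd {r : ℕ} (hr : r.Prime) (h : r ∣ Nat.card (BigGroup hF)) :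
    r = 2 ∨ r = 3 ∨ r = 5 ∨ r = 7 ∨ r = 13 := by
  rw [SemidirectProduct.card, szGal_card] at h
  rcases hr.dvd_mul.1 h with h | h
  · left
    have e : Nat.card (Multiplicative (Matrix (Fin 4) (Fin 4) F)) = (2 ^ (2 * 1 + 1)) ^ 16 := by
      rw [Nat.card_congr (Multiplicative.toAdd)]
      show Nat.card (Fin 4 → Fin 4 → F) = _
      rw [Nat.card_fun, Nat.card_fun, Nat.card_fin, ← pow_mul, Nat.card_eq_fintype_card, hF]
    rw [e, ← pow_mul] at h
    exact (Nat.prime_dvd_prime_iff_eq hr Nat.prime_two).1 (hr.dvd_of_dvd_pow h)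
  · exact prime_dvd_szGal hr h

end CfsgLib.Char.PSpSixThreeGraph
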