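import Cfsg.Agent.Lib.Char.PSpSixThreeGraph.Extension
import Cfsg.Agent.Lib.Classical.OddSpectrum
import Cfsg.Agent.Lib.Classical.SpOrder

/-!
# Unboundedly many groups with the prime graph of the symplectic group of dimension six over three elements
-/

set_option autoImplicit false
set_option linter.style.haveILetI false
set_option linter.unusedSectionVars false

namespace CfsgLib.Char.PSpSixThreeGraph

open CfsgLib.Classical

universe u

/-- The five primes. -/
def primeList : List ℕ := [2, 3, 5, 7, 13]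

/-- The adjacent pairs. -/
def Edge (r s : ℕ) : Prop := r * s = 6 ∨ r * s = 10 ∨ r * s = 14 ∨ r * s = 15

theorem pair_eq {G : Type u} [Group G] [Finite G] (hP : ∀ r : ℕ, r.Prime → (r ∣ Nat.card G ↔ r ∈ primeList))
    (hyes : ∀ n ∈ [6, 10, 14, 15], ∃ g : G, orderOf g = n)
    (hno : ∀ n ∈ [26, 21, 39, 35, 65, 91], ∀ g : G, orderOf g ≠ n) :
    ∀ r s : ℕ, r.Prime → s.Prime → r ≠ s → ((∃ g : G, orderOf g = r * s) ↔ Edge r s) := by
  intro r s hr hs hrs
  constructor
  · rintro ⟨g, hg⟩
    have hd : r * s ∣ Nat.card G := hg ▸ orderOf_dvd_natCard g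
    have h1 := (hP r hr).1 ((dvd_mul_right r s).trans hd)
    have h2 := (hP s hs).1 ((dvd_mul_left s r).trans hd)
    simp only [primeList, List.mem_cons, List.not_mem_nil, or_false] at h1 h2
    unfold Edge
    rcases h1 with rfl | rfl | rfl | rfl | rfl <;> rcases h2 with rfl | rfl | rfl | rfl | rfl <;>
      first
      | exact absurd rfl hrs
      | omega
      | exact absurd hg (hno _ (by simp) g)
  · rintro (h | h | h | h) <;> exact h ▸ hyes _ (by simp)

variable {F : Type u} [Field F] [Fintype F] (hF : Fintype.card F = 3)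

include hF

theorem char_three : CharP F 3 :=
  haveI : Fact (Nat.Prime 3) := ⟨Nat.prime_three⟩
  charP_of_card_eq_prime hF

theorem two_ne : (2 : F) ≠ 0 := by
  haveI := char_three hF
  intro h
  have h' : ((2 : ℕ) : F) = 0 := by exact_mod_cast h
  rw [CharP.cast_eq_zero_iff F 3] at h'
  norm_num at h'

theorem psp_edges_yes : ∀ n ∈ [6, 10, 14, 15], ∃ g : Cfsg.PSp 3 F, orderOf g = n := by
  haveI : Fact (Nat.Prime 3) := ⟨Nat.prime_three⟩
  haveI := char_three hF
  intro n hn
  simp only [List.mem_cons, List.not_mem_nil, or_false] at hn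
  rcases hn with rfl | rfl | rfl | rfl
  · exact OddSpectrum.psp_two_p (n := 3) 3 (two_ne hF) le_rfl
  · exact (OddSpectrum.psp_two_r (n := 3) 3 (two_ne hF) le_rfl (r := 5) (by norm_num) (by norm_num) (by norm_num)).2
      (Or.inl ⟨2, by norm_num, by norm_num, Or.inr (by rw [hF]; norm_num)⟩)
  · exact (OddSpectrum.psp_two_r (n := 3) 3 (two_ne hF) le_rfl (r := 7) (by norm_num) (by norm_num) (by norm_num)).2
      (Or.inr (Or.inr (by rw [hF]; norm_num)))
  · exact (OddSpectrum.psp_rp (n := 3) 3 (two_ne hF) le_rfl (r := 5) (by norm_num) (by norm_num) (by norm_num)).2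
      ⟨2, by norm_num, by norm_num, Or.inr (by rw [hF]; norm_num)⟩

theorem psp_edges_no : ∀ n ∈ [26, 21, 39, 35, 65, 91], ∀ g : Cfsg.PSp 3 F, orderOf g ≠ n := by
  haveI : Fact (Nat.Prime 3) := ⟨Nat.prime_three⟩
  haveI := char_three hF
  have noP : ∀ r, (r = 7 ∨ r = 13) → ¬OddSpectrum.CondP F 3 r := by
    rintro r hr ⟨a, ha, ha', hd⟩
    obtain rfl | rfl : a = 1 ∨ a = 2 := by omega
    all_goals
      rcases hd with hd | hd <;> rw [hF] at hd <;> rcases hr with rfl | rfl <;> norm_num at hd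
  intro n hn g hg
  simp only [List.mem_cons, List.not_mem_nil, or_false] at hn
  rcases hn with rfl | rfl | rfl | rfl | rfl | rfl
  · rcases (OddSpectrum.psp_two_r (n := 3) 3 (two_ne hF) le_rfl (r := 13) (by norm_num) (by norm_num) (by norm_num)).1
      ⟨g, hg⟩ with h | h
    · exact noP 13 (Or.inr rfl) h
    · rcases h with h | h <;> rw [hF] at h <;> norm_num at h
  · exact noP 7 (Or.inl rfl) ((OddSpectrum.psp_rp (n := 3) 3 (two_ne hF) le_rfl (r := 7) (by norm_num) (by norm_num)
      (by norm_num)).1 ⟨g, hg⟩)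
  · exact noP 13 (Or.inr rfl) ((OddSpectrum.psp_rp (n := 3) 3 (two_ne hF) le_rfl (r := 13) (by norm_num) (by norm_num)
      (by norm_num)).1 ⟨g, hg⟩)
  all_goals
    first
    | have h := (OddSpectrum.psp_rs (n := 3) 3 le_rfl (r := 5) (s := 7) (by norm_num) (by norm_num) (by norm_num)
        (by norm_num) (by norm_num) (by norm_num) (by norm_num)).1 ⟨g, hg⟩
    | have h := (OddSpectrum.psp_rs (n := 3) 3 le_rfl (r := 5) (s := 13) (by norm_num) (by norm_num) (by norm_num)
        (by norm_num) (by norm_num) (by norm_num) (by norm_num)).1 ⟨g, hg⟩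
    | have h := (OddSpectrum.psp_rs (n := 3) 3 le_rfl (r := 7) (s := 13) (by norm_num) (by norm_num) (by norm_num)
        (by norm_num) (by norm_num) (by norm_num) (by norm_num)).1 ⟨g, hg⟩
    rcases h with ⟨e, he1, he, hd⟩ | ⟨a, b, ha, hb, hab, hda, hdb⟩
    · rcases hd with hd | hd <;> rw [hF] at hd <;> interval_cases e <;> norm_num at hd
    · obtain ⟨rfl, rfl⟩ | ⟨rfl, rfl⟩ | ⟨rfl, rfl⟩ : (a = 1 ∧ b = 1) ∨ (a = 1 ∧ b = 2) ∨ (a = 2 ∧ b = 1) := by omega
      all_goals
        rcases hda with hda | hda <;> rcases hdb with hdb | hdb <;> rw [hF] at hda hdb <;>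
          revert hda hdb <;> norm_num

theorem psp_primes (r : ℕ) (hr : r.Prime) : r ∣ Nat.card (Cfsg.PSp 3 F) ↔ r ∈ primeList := by
  haveI : Fact (Nat.Prime 3) := ⟨Nat.prime_three⟩
  haveI := char_three hF
  haveI : Finite (Matrix.symplecticGroup (Fin 3) F) := Subtype.finite
  have hcard : Nat.card (Matrix.symplecticGroup (Fin 3) F) = 3 ^ 9 * (8 * 80 * 728) := by
    rw [card_symplectic, hF]
    simp [Finset.prod_range_succ]
  constructor
  · intro h
    have h' : r ∣ 2 ^ 10 * 3 ^ 9 * 5 * 7 * 13 := by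
      rw [show 2 ^ 10 * 3 ^ 9 * 5 * 7 * 13 = 3 ^ 9 * (8 * 80 * 728) by norm_num, ← hcard]
      exact h.trans (Subgroup.card_quotient_dvd_card _)
    simp only [hr.dvd_mul] at h'
    simp only [primeList, List.mem_cons, List.not_mem_nil, or_false]
    rcases h' with (((h' | h') | h') | h') | h'
    · left; exact (Nat.prime_dvd_prime_iff_eq hr Nat.prime_two).1 (hr.dvd_of_dvd_pow h')
    · right; left; exact (Nat.prime_dvd_prime_iff_eq hr Nat.prime_three).1 (hr.dvd_of_dvd_pow h')
    all_goals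
      have := (Nat.prime_dvd_prime_iff_eq hr (by norm_num)).1 h'
      omega
  · intro h
    simp only [primeList, List.mem_cons, List.not_mem_nil, or_false] at h
    have hy : ∀ n ∈ [6, 10, 14, 15], r ∣ n → r ∣ Nat.card (Cfsg.PSp 3 F) := fun n hn hd => by
      obtain ⟨g, hg⟩ := psp_edges_yes hF n hn
      exact hd.trans (hg ▸ orderOf_dvd_natCard g)
    rcases h with rfl | rfl | rfl | rfl | rfl
    · exact hy 6 (by simp) (by norm_num)
    · exact hy 6 (by simp) (by norm_num)
    · exact hy 10 (by simp) (by norm_num)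
    · exact hy 14 (by simp) (by norm_num)
    · haveI : Fact (Nat.Prime 13) := ⟨by norm_num⟩
      obtain ⟨A, hA⟩ := exists_prime_orderOf_dvd_card' (G := Matrix.symplecticGroup (Fin 3) F) 13
        (by rw [hcard]; norm_num)
      have h13 := CfsgLib.Classical.Adjacency.psp_order 3 (n := 3) (by norm_num) hA (Or.inl (by decide))
      exact h13 ▸ orderOf_dvd_natCard _

omit hF in
theorem large_graph (N : ℕ) :
    ∃ (H : Type) (_ : Group H) (_ : Finite H), N < Nat.card H ∧
      (∀ r : ℕ, r.Prime → (r ∣ Nat.card H ↔ r ∈ primeList)) ∧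
      (∀ r s : ℕ, r.Prime → s.Prime → r ≠ s → ((∃ g : H, orderOf g = r * s) ↔ Edge r s)) := by
  haveI : Fact (Nat.Prime 2) := ⟨Nat.prime_two⟩
  letI : Fintype (GaloisField 2 (2 * 1 + 1)) := Fintype.ofFinite _
  have hK : Fintype.card (GaloisField 2 (2 * 1 + 1)) = 2 ^ (2 * 1 + 1) := by
    rw [← Nat.card_eq_fintype_card, GaloisField.card 2 _ (by norm_num)]
  set G := BigGroup hK
  haveI : Finite G := finite_big hK
  set V : Subgroup G := (SemidirectProduct.rightHom).ker
  have hV : ∀ x ∈ V, x ^ 2 = 1 := fun x hx => by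
    rw [MonoidHom.mem_ker] at hx
    rw [semiPair_eta x, show x.right = 1 from hx, semiPair_one_pow, two_nsmul_zero]
    rfl
  have hne : V ≠ ⊥ := fun h => by
    have hmem : semiPair (Matrix.single 0 0 1 : Matrix (Fin 4) (Fin 4) (GaloisField 2 (2 * 1 + 1)))
        (1 : SzGal hK) ∈ V := rfl
    rw [h, Subgroup.mem_bot] at hmem
    have := congrArg (fun x : G => x.left.toAdd 0 0) hmem
    exact one_ne_zero (α := GaloisField 2 (2 * 1 + 1)) ((Matrix.single_apply_same 0 0 1).symm.trans this)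
  obtain ⟨H, iG, iF, hN, hr⟩ := exists_large_isospectral Nat.prime_two hV hne N
  have hin : ∀ n, (∃ g : H, orderOf g = n) ↔ ∃ g : G, orderOf g = n := fun n => Iff.of_eq (congrArg (n ∈ ·) hr)
  have hyes : ∀ n ∈ [6, 10, 14, 15], ∃ g : G, orderOf g = n := by
    simp only [List.mem_cons, List.not_mem_nil, or_false, forall_eq_or_imp, forall_eq]
    exact ⟨exists_six hK, exists_ten hK, exists_fourteen hK, exists_fifteen hK⟩
  have hPG : ∀ r : ℕ, r.Prime → (r ∣ Nat.card G ↔ r ∈ primeList) := by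
    intro r hr
    simp only [primeList, List.mem_cons, List.not_mem_nil, or_false]
    refine ⟨big_card_dvd hK hr, fun h => ?_⟩
    rw [SemidirectProduct.card, szGal_card]
    refine Dvd.dvd.mul_left ?_ _
    rcases h with rfl | rfl | rfl | rfl | rfl <;> norm_num
  have hmem : ∀ {A : Type} [Group A] [Finite A] (r : ℕ), r.Prime → (r ∣ Nat.card A ↔ ∃ a : A, orderOf a = r) :=
    fun {A} _ _ r hr => ⟨fun h => haveI := Fact.mk hr; exists_prime_orderOf_dvd_card' r h,
      fun ⟨a, ha⟩ => ha ▸ orderOf_dvd_natCard a⟩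
  refine ⟨H, iG, inferInstance, by rwa [Nat.card_eq_fintype_card], fun r hr => ?_, fun r s hr hs hrs => ?_⟩
  · rw [hmem r hr, hin, ← hmem r hr, hPG r hr]
  · rw [hin]
    refine pair_eq hPG hyes (fun n hn g => big_no hK ?_ g) r s hr hs hrs
    simpa using hn

end CfsgLib.Char.PSpSixThreeGraph
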