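import Cfsg.Agent.Lib.Lie.Suz.Tori
import Cfsg.Agent.Lib.Lie.Suz.Aut

/-!
# Element orders in the Suzuki group over eight elements and eigenvalues of its elements of order thirteen
-/

set_option autoImplicit false
set_option linter.style.haveILetI false
set_option linter.unusedSectionVars false

namespace CfsgLib.Char.PSpSixThreeGraph

open Matrix Polynomial CfsgLib.Lie
open scoped MatrixGroups

universe u

variable {F : Type u} [Field F] [Fintype F]

/-- The Suzuki group of parameter one. -/
local notation "S8" => Cfsg.Sz F 1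

variable (hF : Fintype.card F = 2 ^ (2 * 1 + 1))
include hF

theorem card_S8 : Nat.card S8 = 29120 := by
  rw [Suz.card_group le_rfl hF, hF]
  norm_num

/-- The matrix of an element. -/
def matOf (z : S8) : Matrix (Fin 4) (Fin 4) F := (z : SL(4, F)).1

/-- No element order is a proper multiple of `5` or `13`. -/
theorem order_eq_of_torus {r : ℕ} (hr : r = 5 ∨ r = 13) {g : S8} (h : r ∣ orderOf g) : orderOf g = r := by
  classical
  have hrp : r.Prime := by rcases hr with rfl | rfl <;> norm_num
  have hrn : r ∣ Fintype.card F ^ 2 + 1 := by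
    rw [hF]; rcases hr with rfl | rfl <;> norm_num
  set y := g ^ (orderOf g / r)
  have hy : orderOf y = r := orderOf_pow_orderOf_div (orderOf_pos g).ne' h
  have hT : Suz.IsTorus (Subgroup.centralizer ({y} : Set S8)) :=
    ⟨y, hy.symm ▸ hrp, Suz.prime_free le_rfl hF hrp hy hrn, rfl⟩
  have hg : g ∈ Subgroup.centralizer ({y} : Set S8) :=
    Subgroup.mem_centralizer_singleton_iff.2 (Commute.self_pow g _).eq
  obtain ⟨T, hT', hcT, -⟩ := Suz.exists_tori (F := F) (m := 1) le_rfl hF (k := r)
    (by rcases hr with rfl | rfl <;> norm_num)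
  obtain ⟨c, hc⟩ := Suz.torus_conj le_rfl hF hT' hT hrp (hcT ▸ dvd_rfl)
    (hy ▸ Subgroup.orderOf_dvd_natCard _ (Subgroup.mem_centralizer_singleton_iff.2 rfl))
  have hcard : Nat.card (Subgroup.centralizer ({y} : Set S8)) = r := by
    rw [← hc, Subgroup.card_map_of_injective (MulAut.conj c).injective, hcT]
  exact Nat.dvd_antisymm (hcard ▸ Subgroup.orderOf_dvd_natCard _ hg) h

theorem exists_conj_torus {y : S8} (hy : orderOf y = 7) :
    ∃ (c : S8) (k : Fˣ), k ≠ 1 ∧ y = c * Suz.HS hF k * c⁻¹ ∧
      Subgroup.centralizer ({y} : Set S8) ≤ (Suz.HSub hF).map (MulAut.conj c).toMonoidHom := by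
  classical
  have h7 : Nat.Prime 7 := by norm_num
  have hy1 : y ≠ 1 := fun h => by rw [h, orderOf_one] at hy; norm_num at hy
  have hmem : y ∈ Subgroup.centralizer ({y} : Set S8) := Subgroup.mem_centralizer_singleton_iff.2 rfl
  have hnf : ¬ Suz.Free y := fun h => by
    have := Suz.free_prime_dvd le_rfl hF (hy.symm ▸ h7) h
    rw [hy, hF] at this
    norm_num at this
  simp only [Suz.Free, not_forall, not_not] at hnf
  obtain ⟨a, ha⟩ := hnf
  by_cases htwo : ∃ b, b ≠ a ∧ y • b = b
  · obtain ⟨b, hb, hby⟩ := htwo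
    obtain ⟨c, hc⟩ := Suz.centralizer_two_fixed le_rfl hF hy1 (Ne.symm hb) ha hby
    obtain ⟨_, ⟨k, rfl⟩, hk⟩ := hc hmem
    refine ⟨c, k, fun h => hy1 ?_, hk.symm, hc⟩
    rw [← hk, h]
    show c * Suz.HS hF 1 * c⁻¹ = 1
    rw [show (Suz.HS hF 1 : S8) = 1 from Subtype.ext Suz.H_one, mul_one, mul_inv_cancel]
  · push Not at htwo
    obtain ⟨n, hn⟩ := (IsPGroup.iff_orderOf (p := 2)).1
      (Suz.centralizer_one_fixed le_rfl hF hy1 ha fun b hb => by_contra fun hne => htwo b hne hb) ⟨y, hmem⟩
    rw [← Subgroup.orderOf_coe, hy] at hn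
    exact absurd ((Nat.prime_dvd_prime_iff_eq h7 Nat.prime_two).1 (h7.dvd_of_dvd_pow (dvd_of_eq hn))) (by norm_num)

/-- No element order is a proper multiple of `7`. -/
theorem order_eq_of_seven {g : S8} (h : 7 ∣ orderOf g) : orderOf g = 7 := by
  classical
  set y := g ^ (orderOf g / 7)
  have hy : orderOf y = 7 := orderOf_pow_orderOf_div (orderOf_pos g).ne' h
  obtain ⟨c, k, -, -, hc⟩ := exists_conj_torus hF hy
  obtain ⟨_, ⟨l, rfl⟩, hl⟩ := hc (Subgroup.mem_centralizer_singleton_iff.2 (Commute.self_pow g _).eq :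
    g ∈ Subgroup.centralizer {y})
  refine Nat.dvd_antisymm (orderOf_dvd_of_pow_eq_one ?_) h
  rw [← hl, ← map_pow]
  have : (Suz.HS hF l : S8) ^ 7 = 1 := Subtype.ext (by
    rw [Subgroup.coe_pow]
    show (Suz.Hhom F 1 l) ^ 7 = 1
    rw [← map_pow, show l ^ 7 = 1 from Units.ext (by
      rw [Units.val_pow_eq_pow_val, Units.val_one, show 7 = Fintype.card F - 1 by rw [hF]; norm_num,
        FiniteField.pow_card_sub_one_eq_one _ l.ne_zero]), map_one])
  rw [this, map_one]

/-- There are no elements of order the product of two distinct primes other than none. -/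
theorem no_pq {g : S8} {r s : ℕ} (hs : s ≠ 1) (hr : r = 5 ∨ r = 7 ∨ r = 13) : orderOf g ≠ r * s := by
  intro h
  have hd : r ∣ orderOf g := h ▸ dvd_mul_right r s
  have : orderOf g = r := by
    rcases hr with rfl | rfl | rfl
    · exact order_eq_of_torus hF (Or.inl rfl) hd
    · exact order_eq_of_seven hF hd
    · exact order_eq_of_torus hF (Or.inr rfl) hd
  rw [h] at this
  exact hs (Nat.eq_of_mul_eq_mul_left (by omega) (this.trans (mul_one r).symm))

/-- An eigenvalue of an element of order thirteen determines all of them. -/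
theorem eigen_orbit {y : S8} (hy : orderOf y = 13) :
    ∃ l : AlgebraicClosure F, l ^ 13 = 1 ∧ l ≠ 1 ∧
      ∀ a : AlgebraicClosure F, aeval a (matOf y).charpoly = 0 ↔
        a = l ∨ a = l ^ 8 ∨ a = l ^ 12 ∨ a = l ^ 5 := by
  classical
  set ι := algebraMap F (AlgebraicClosure F)
  set M := matOf y with hM
  have hM13 : M ^ 13 = 1 := by
    rw [hM, matOf, ← Matrix.SpecialLinearGroup.coe_pow, ← Subgroup.coe_pow, ← hy, pow_orderOf_eq_one]
    rfl
  haveI : Fact (Nat.Prime 2) := ⟨Nat.prime_two⟩
  haveI : CharP F 2 := charP_of_card_eq_prime_pow hF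
  haveI : CharP (AlgebraicClosure F) 2 := charP_of_injective_algebraMap ι.injective 2
  have hroot : ∀ a : AlgebraicClosure F, aeval a M.charpoly = 0 → a ^ 13 = 1 := by
    intro a ha
    rw [aeval_def, ← eval_map, ← Matrix.charpoly_map, Matrix.eval_charpoly] at ha
    obtain ⟨v, hv, he⟩ := Matrix.exists_mulVec_eq_zero_iff.2 ha
    rw [Matrix.sub_mulVec, sub_eq_zero, Matrix.scalar_apply, ← Matrix.smul_one_eq_diagonal, Matrix.smul_mulVec,
      Matrix.one_mulVec] at he
    have hp : ∀ n, (M.map ι) ^ n *ᵥ v = a ^ n • v := by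
      intro n
      induction n with
      | zero => simp
      | succ n ih =>
        rw [pow_succ, ← Matrix.mulVec_mulVec, ← he, Matrix.mulVec_smul, ih, smul_smul, pow_succ']
    have h13 := hp 13
    rw [show (M.map ι) ^ 13 = 1 by
      rw [← RingHom.mapMatrix_apply, ← map_pow, hM13, map_one], Matrix.one_mulVec] at h13
    have h0 : (a ^ 13 - 1) • v = 0 := by rw [sub_smul, one_smul, ← h13, sub_self]
    exact sub_eq_zero.1 ((smul_eq_zero.1 h0).resolve_right hv)
  have hdeg : (M.charpoly.map ι).natDegree = 4 := by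
    rw [natDegree_map, Matrix.charpoly_natDegree_eq_dim, Fintype.card_fin]
  have hmon : (M.charpoly.map ι).Monic := (Matrix.charpoly_monic M).map ι
  have hmem : ∀ a, a ∈ (M.charpoly.map ι).roots ↔ aeval a M.charpoly = 0 := fun a => by
    rw [mem_roots hmon.ne_zero, IsRoot.def, eval_map, aeval_def]
  obtain ⟨l, hl, hl1⟩ : ∃ l : AlgebraicClosure F, aeval l M.charpoly = 0 ∧ l ≠ 1 := by
    by_contra hall
    push Not at hall
    have hsplit := (IsAlgClosed.splits (M.charpoly.map ι)).eq_prod_roots_of_monic hmon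
    have hr : (M.charpoly.map ι).roots = Multiset.replicate 4 1 := by
      refine Multiset.eq_replicate.2 ⟨?_, fun a ha => hall a ((hmem a).1 ha)⟩
      rw [← (IsAlgClosed.splits (M.charpoly.map ι)).natDegree_eq_card_roots, hdeg]
    rw [hr, Multiset.map_replicate, Multiset.prod_replicate] at hsplit
    have hc := Matrix.aeval_self_charpoly (M.map ι)
    rw [Matrix.charpoly_map, hsplit, map_pow, map_sub, aeval_X, aeval_C, map_one] at hc
    have h4 : (M.map ι) ^ 4 = 1 := by
      generalize M.map ι = N at hc ⊢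
      have e : (N - 1) ^ (2 ^ 2) = N ^ (2 ^ 2) - 1 ^ (2 ^ 2) :=
        sub_pow_char_pow_of_commute (p := 2) (n := 2) (Commute.one_right N)
      rw [one_pow, show (2 : ℕ) ^ 2 = 4 by norm_num] at e
      exact sub_eq_zero.1 (e.symm.trans hc)
    have : y ^ 4 = 1 := by
      refine Subtype.ext (Subtype.ext ?_)
      rw [Subgroup.coe_pow, Matrix.SpecialLinearGroup.coe_pow]
      show M ^ 4 = 1
      refine Matrix.map_injective ι.injective ?_
      show ι.mapMatrix (M ^ 4) = ι.mapMatrix 1
      rw [map_pow, map_one]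
      exact h4
    have := orderOf_dvd_of_pow_eq_one this
    rw [hy] at this
    norm_num at this
  have hl13 := hroot l hl
  have hfr : ∀ a : AlgebraicClosure F, aeval a M.charpoly = 0 → aeval (a ^ 8) M.charpoly = 0 := by
    intro a ha
    have h := congrArg (iterateFrobenius (AlgebraicClosure F) 2 3) ha
    rw [map_zero, aeval_def, hom_eval₂, iterateFrobenius_def, show (2 : ℕ) ^ 3 = 8 from rfl] at h
    rw [aeval_def]
    convert h using 2
    ext c
    show ι c = iterateFrobenius (AlgebraicClosure F) 2 3 (ι c)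
    rw [iterateFrobenius_def, ← map_pow, show (2 : ℕ) ^ 3 = Fintype.card F by rw [hF], FiniteField.pow_card]
  have h8 := hfr l hl
  have h12 : aeval (l ^ 12) M.charpoly = 0 := by
    have := hfr _ h8
    rwa [← pow_mul, show 8 * 8 = 13 * 4 + 12 from rfl, pow_add, pow_mul, hl13, one_pow, one_mul] at this
  have h5 : aeval (l ^ 5) M.charpoly = 0 := by
    have := hfr _ h12
    rwa [← pow_mul, show 12 * 8 = 13 * 7 + 5 from rfl, pow_add, pow_mul, hl13, one_pow, one_mul] at this
  refine ⟨l, hl13, hl1, fun a => ⟨fun ha => ?_, ?_⟩⟩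
  · haveI : Fact (Nat.Prime 13) := ⟨by norm_num⟩
    have ho : orderOf l = 13 := orderOf_eq_prime hl13 hl1
    have inj : ∀ i j : ℕ, i < 13 → j < 13 → l ^ i = l ^ j → i = j := fun i j hi hj h =>
      pow_injOn_Iio_orderOf (x := l) (by rw [Set.mem_Iio, ho]; exact hi) (by rw [Set.mem_Iio, ho]; exact hj) h
    set T : Finset (AlgebraicClosure F) := ({1, 8, 12, 5} : Finset ℕ).image (fun i => l ^ i) with hT
    have hTc : T.card = 4 := by
      rw [hT, Finset.card_image_of_injOn]
      · rfl
      · intro i hi j hj h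
        simp only [Finset.mem_coe, Finset.mem_insert, Finset.mem_singleton] at hi hj
        exact inj i j (by omega) (by omega) h
    have hsub : T ⊆ (M.charpoly.map ι).roots.toFinset := by
      intro b hb
      rw [Multiset.mem_toFinset, hmem]
      simp only [hT, Finset.mem_image, Finset.mem_insert, Finset.mem_singleton] at hb
      obtain ⟨i, rfl | rfl | rfl | rfl, rfl⟩ := hb
      exacts [(pow_one l).symm ▸ hl, h8, h12, h5]
    have heq : T = (M.charpoly.map ι).roots.toFinset := Finset.eq_of_subset_of_card_le hsub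
      ((Multiset.toFinset_card_le _).trans ((card_roots' _).trans (by rw [hdeg, hTc])))
    have : a ∈ T := by rw [heq, Multiset.mem_toFinset, hmem]; exact ha
    simpa [hT, eq_comm] using this
  · rintro (rfl | rfl | rfl | rfl) <;> assumption

/-- The coefficients of the characteristic polynomial are not all in the prime field. -/
theorem charpoly_not_fixed {y : S8} (hy : orderOf y = 7 ∨ orderOf y = 13) :
    ∃ i, (matOf y).charpoly.coeff i ^ 2 ≠ (matOf y).charpoly.coeff i := by
  classical
  by_contra hall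
  push Not at hall
  set ι := algebraMap F (AlgebraicClosure F)
  haveI : Fact (Nat.Prime 2) := ⟨Nat.prime_two⟩
  haveI : CharP F 2 := charP_of_card_eq_prime_pow hF
  haveI : CharP (AlgebraicClosure F) 2 := charP_of_injective_algebraMap ι.injective 2
  have hfr : ∀ a : AlgebraicClosure F, aeval a (matOf y).charpoly = 0 → aeval (a ^ 2) (matOf y).charpoly = 0 := by
    intro a ha
    have h := congrArg (iterateFrobenius (AlgebraicClosure F) 2 1) ha
    rw [map_zero, aeval_def, hom_eval₂, iterateFrobenius_def, pow_one] at h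
    rw [aeval_def, ← h]
    refine eval₂_congr rfl rfl rfl |>.trans ?_
    rw [eval₂_eq_sum, eval₂_eq_sum]
    refine Finset.sum_congr rfl fun i _ => ?_
    show ι _ * _ = iterateFrobenius (AlgebraicClosure F) 2 1 (ι _) * _
    rw [iterateFrobenius_def, pow_one, ← map_pow, hall i]
  rcases hy with hy | hy
  · obtain ⟨c, k, hk1, rfl, -⟩ := exists_conj_torus hF hy
    have e : (matOf (c * Suz.HS hF k * c⁻¹)).charpoly = ∏ i, (X - C (Suz.hd 1 k i)) := by
      have he : matOf (c * Suz.HS hF k * c⁻¹) =
          (Matrix.SpecialLinearGroup.toGL (c : SL(4, F))).val * Matrix.diagonal (Suz.hd 1 k) *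
            ((Matrix.SpecialLinearGroup.toGL (c : SL(4, F)))⁻¹).val := by
        rw [← map_inv]; rfl
      rw [he, Matrix.coe_units_inv, Matrix.charpoly_units_conj, Matrix.charpoly_diagonal]
    rw [e] at hfr
    have hk7 : (k : F) ^ 7 = 1 := by
      rw [show 7 = Fintype.card F - 1 by rw [hF]; norm_num, FiniteField.pow_card_sub_one_eq_one _ k.ne_zero]
    have hr : aeval (ι ((k : F) ^ 4)) (∏ i, (X - C (Suz.hd 1 k i))) = 0 := by
      rw [map_prod]
      refine Finset.prod_eq_zero (Finset.mem_univ 3) ?_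
      rw [map_sub, aeval_X, aeval_C, sub_eq_zero]
      congr 1
      simp only [Suz.hd, Matrix.cons_val]
      rw [Units.val_inv_eq_inv_val, Units.val_pow_eq_pow_val]
      field_simp
      linear_combination hk7
    have h2 := hfr _ hr
    rw [map_prod, Finset.prod_eq_zero_iff] at h2
    obtain ⟨i, -, hi⟩ := h2
    rw [map_sub, aeval_X, aeval_C, sub_eq_zero, ← map_pow] at hi
    have hi' := ι.injective hi
    rw [← pow_mul, show 4 * 2 = 7 + 1 from rfl, pow_add, hk7, one_mul, pow_one] at hi'
    haveI : Fact (Nat.Prime 7) := ⟨by norm_num⟩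
    have ho : orderOf (k : F) = 7 := orderOf_eq_prime hk7 fun h => hk1 (Units.ext h)
    have hne : ∀ j : ℕ, j < 7 → j ≠ 1 → (k : F) ^ j ≠ k := fun j hj hj1 h =>
      hj1 (pow_injOn_Iio_orderOf (x := (k : F)) (by rw [Set.mem_Iio, ho]; exact hj)
        (by rw [Set.mem_Iio, ho]; norm_num) (h.trans (pow_one _).symm))
    fin_cases i <;> simp [Suz.hd, Units.val_inv_eq_inv_val] at hi'
    · exact hne 3 (by norm_num) (by norm_num) hi'.symm
    · exact hne 2 (by norm_num) (by norm_num) hi'.symm
    · refine hne 5 (by norm_num) (by norm_num) (hi'.trans ?_).symm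
      field_simp
      linear_combination -hk7
    · refine hne 4 (by norm_num) (by norm_num) (hi'.trans ?_).symm
      field_simp
      linear_combination -hk7
  · obtain ⟨l, hl13, hl1, hroots⟩ := eigen_orbit hF hy
    haveI : Fact (Nat.Prime 13) := ⟨by norm_num⟩
    have ho : orderOf l = 13 := orderOf_eq_prime hl13 hl1
    have inj : ∀ j : ℕ, j < 13 → l ^ 2 = l ^ j → j = 2 := fun j hj h =>
      pow_injOn_Iio_orderOf (x := l) (by rw [Set.mem_Iio, ho]; exact hj)
        (by rw [Set.mem_Iio, ho]; norm_num) h.symm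
    rcases (hroots _).1 (hfr l ((hroots l).2 (Or.inl rfl))) with h | h | h | h
    · exact absurd (inj 1 (by norm_num) (by rwa [pow_one])) (by norm_num)
    · exact absurd (inj 8 (by norm_num) h) (by norm_num)
    · exact absurd (inj 12 (by norm_num) h) (by norm_num)
    · exact absurd (inj 5 (by norm_num) h) (by norm_num)

/-- An element of order thirteen has no fixed vector on the twisted tensor module. -/
theorem no_fixed {y : S8} (hy : orderOf y = 13) {σ : F →+* F} (hσ : ∀ x, σ x = x ^ 2)
    {M : Matrix (Fin 4) (Fin 4) F} (h : matOf y * M * ((matOf y).map σ)ᵀ = M) : M = 0 := by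
  classical
  set ι := algebraMap F (AlgebraicClosure F)
  haveI : Fact (Nat.Prime 2) := ⟨Nat.prime_two⟩
  haveI : CharP F 2 := charP_of_card_eq_prime_pow hF
  haveI : CharP (AlgebraicClosure F) 2 := charP_of_injective_algebraMap ι.injective 2
  obtain ⟨l, hl13, hl1, hroots⟩ := eigen_orbit hF hy
  have hyi : orderOf y⁻¹ = 13 := by rw [orderOf_inv, hy]
  set B := ((matOf y).map σ)ᵀ with hB
  set A := matOf y⁻¹ with hA
  have hA1 : A * matOf y = 1 := by
    show (y⁻¹ : S8).1.1 * y.1.1 = 1
    rw [← Matrix.SpecialLinearGroup.coe_mul, ← Subgroup.coe_mul, inv_mul_cancel]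
    rfl
  have hMB : M * B = A * M := by
    conv_rhs => rw [← h]
    rw [← Matrix.mul_assoc, ← Matrix.mul_assoc, hA1, Matrix.one_mul]
  have hpoly : ∀ f : F[X], M * aeval B f = aeval A f * M := by
    intro f
    induction f using Polynomial.induction_on' with
    | add p q hp hq => rw [map_add, map_add, Matrix.mul_add, Matrix.add_mul, hp, hq]
    | monomial n c =>
      rw [aeval_monomial, aeval_monomial, Algebra.algebraMap_eq_smul_one, Matrix.smul_mul, Matrix.one_mul,
        Matrix.mul_smul, Matrix.smul_mul, Matrix.one_mul, Matrix.smul_mul]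
      congr 1
      induction n with
      | zero => simp
      | succ n ih => rw [pow_succ, ← Matrix.mul_assoc, ih, Matrix.mul_assoc, hMB, ← Matrix.mul_assoc, pow_succ]
  set f := (matOf y).charpoly.map σ with hf
  have hfB : aeval B f = 0 := by
    rw [hf, ← Matrix.charpoly_map, ← Matrix.charpoly_transpose, ← hB]
    exact Matrix.aeval_self_charpoly B
  have hcop : IsCoprime f A.charpoly := by
    refine (Polynomial.isCoprime_iff_aeval_ne_zero_of_isAlgClosed F (AlgebraicClosure F) _ _).2 fun a => ?_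
    by_contra hcon
    push Not at hcon
    obtain ⟨ha, ha'⟩ := hcon
    obtain ⟨b, hb⟩ : ∃ b : AlgebraicClosure F, b ^ 2 = a := IsAlgClosed.exists_pow_nat_eq a two_pos
    have hb' : aeval b (matOf y).charpoly = 0 := by
      refine eq_zero_of_pow_eq_zero (n := 2) ?_
      rw [← ha, hf, aeval_def, aeval_def, eval₂_map, ← hb]
      have h2 := hom_eval₂ (matOf y).charpoly ι (iterateFrobenius (AlgebraicClosure F) 2 1) b
      rw [iterateFrobenius_def, iterateFrobenius_def, pow_one] at h2
      rw [h2]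
      congr 1
      ext c
      show iterateFrobenius (AlgebraicClosure F) 2 1 (ι c) = ι (σ c)
      rw [iterateFrobenius_def, pow_one, hσ, map_pow]
    -- the inverse of an eigenvalue
    have hinv : aeval a⁻¹ (matOf y).charpoly = 0 := by
      rw [aeval_def, ← eval_map, ← Matrix.charpoly_map, Matrix.eval_charpoly] at ha'
      obtain ⟨v, hv, he⟩ := Matrix.exists_mulVec_eq_zero_iff.2 ha'
      rw [Matrix.sub_mulVec, sub_eq_zero, Matrix.scalar_apply, ← Matrix.smul_one_eq_diagonal, Matrix.smul_mulVec,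
        Matrix.one_mulVec] at he
      have h1 : (matOf y).map ι *ᵥ (A.map ι *ᵥ v) = v := by
        have hA2 : matOf y * A = 1 := mul_eq_one_comm.1 hA1
        rw [Matrix.mulVec_mulVec, ← Matrix.map_mul, hA2, Matrix.map_one _ (map_zero ι) (map_one ι), Matrix.one_mulVec]
      rw [← he, Matrix.mulVec_smul] at h1
      have ha0 : a ≠ 0 := fun e => by rw [e, zero_smul] at h1; exact hv h1.symm
      rw [aeval_def, ← eval_map, ← Matrix.charpoly_map, Matrix.eval_charpoly]
      refine Matrix.exists_mulVec_eq_zero_iff.1 ⟨v, hv, ?_⟩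
      rw [Matrix.sub_mulVec, sub_eq_zero, Matrix.scalar_apply, ← Matrix.smul_one_eq_diagonal, Matrix.smul_mulVec,
        Matrix.one_mulVec]
      exact (inv_smul_eq_iff₀ ha0).2 h1.symm
    obtain ⟨i, hi, rfl⟩ : ∃ i, (i = 1 ∨ i = 8 ∨ i = 12 ∨ i = 5) ∧ b = l ^ i := by
      rcases (hroots b).1 hb' with e | e | e | e
      · exact ⟨1, Or.inl rfl, by rw [pow_one]; exact e⟩
      · exact ⟨8, by simp, e⟩
      · exact ⟨12, by simp, e⟩
      · exact ⟨5, by simp, e⟩
    obtain ⟨j, hj, hj'⟩ : ∃ j, (j = 1 ∨ j = 8 ∨ j = 12 ∨ j = 5) ∧ a⁻¹ = l ^ j := by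
      rcases (hroots _).1 hinv with e | e | e | e
      · exact ⟨1, Or.inl rfl, by rw [pow_one]; exact e⟩
      · exact ⟨8, by simp, e⟩
      · exact ⟨12, by simp, e⟩
      · exact ⟨5, by simp, e⟩
    haveI : Fact (Nat.Prime 13) := ⟨by norm_num⟩
    have ho : orderOf l = 13 := orderOf_eq_prime hl13 hl1
    have hl0 : l ≠ 0 := fun e => by simp [e] at hl13
    rw [← hb, ← pow_mul, inv_eq_iff_eq_inv] at hj'
    have hj' : l ^ (i * 2 + j) = 1 := by rw [pow_add, hj', inv_mul_cancel₀ (pow_ne_zero _ hl0)]
    have hd := orderOf_dvd_of_pow_eq_one hj'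
    rw [ho] at hd
    omega
  obtain ⟨p, q, hpq⟩ := hcop
  have h1 := congrArg (aeval A) hpq
  rw [map_add, map_mul, map_mul, Matrix.aeval_self_charpoly, mul_zero, add_zero, map_one] at h1
  have h2 : aeval A f * M = 0 := by rw [← hpoly, hfB, Matrix.mul_zero]
  calc M = aeval A p * (aeval A f * M) := by rw [← Matrix.mul_assoc, h1, Matrix.one_mul]
    _ = 0 := by rw [h2, Matrix.mul_zero]

end CfsgLib.Char.PSpSixThreeGraph
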